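import Cfsg.Agent.U62Rec.S83.Groups
import Cfsg.Agent.U62Rec.S83.Red.AT
import Cfsg.Agent.U62Rec.S83.Red.ST
import Cfsg.Agent.U62Rec.S83.Red.AP0
import Cfsg.Agent.U62Rec.S83.Red.AP1
import Cfsg.Agent.U62Rec.S83.Red.AM0
import Cfsg.Agent.U62Rec.S83.Red.AM1
import Cfsg.Agent.U62Rec.S83.Red.SP00
import Cfsg.Agent.U62Rec.S83.Red.SP01
import Cfsg.Agent.U62Rec.S83.Red.SP10
import Cfsg.Agent.U62Rec.S83.Red.SP11
import Cfsg.Agent.U62Rec.S83.Red.SM00
import Cfsg.Agent.U62Rec.S83.Red.SM01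
import Cfsg.Agent.U62Rec.S83.Red.SM10
import Cfsg.Agent.U62Rec.S83.Red.SM11

/-!
# Centraliser `2^{1+8}.(S₃ × A₆)` or `2^{1+8}.(S₃ × S₆)`
-/

set_option autoImplicit false
set_option maxRecDepth 100000

open Cfsg Subgroup

namespace Cfsg.Agent.U62Rec.S83

open Cfsg.Agent.LargeExtra
open S36
open Equiv (Perm swap)

theorem cfgsA_eq : cfgsA = [(AT.gens, AT.lin), (AP0.gens, AP0.lin), (AP1.gens, AP1.lin),
    (AM0.gens, AM0.lin), (AM1.gens, AM1.lin)] := by decide +kernel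

theorem cfgsS_eq : cfgsS = [(ST.gens, ST.lin), (SP00.gens, SP00.lin), (SP01.gens, SP01.lin),
    (SP10.gens, SP10.lin), (SP11.gens, SP11.lin), (SM00.gens, SM00.lin), (SM01.gens, SM01.lin),
    (SM10.gens, SM10.lin), (SM11.gens, SM11.lin)] := by decide +kernel

theorem cfgs_codes : ∀ c ∈ cfgsA ++ cfgsS, ∀ g ∈ c.1, g < 2 ^ 64 := by decide +kernel

variable {G : Type*} [Group G] [Finite G] {z : G}

/-- In every configuration `G = H·O(G)`. -/
theorem sup_top {c : List ℕ × ℕ} (hc : c ∈ cfgsA ++ cfgsS) (M : Mod ⟨c.1, c.2⟩ z) :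
    centralizer ({z} : Set G) ⊔ Cfsg.oddCore G = ⊤ := by
  rw [cfgsA_eq, cfgsS_eq] at hc
  simp only [List.cons_append, List.nil_append, List.mem_cons, List.not_mem_nil, or_false] at hc
  rcases hc with rfl | rfl | rfl | rfl | rfl | rfl | rfl | rfl | rfl | rfl | rfl | rfl | rfl | rfl
  exacts [AT.main M, AP0.main M, AP1.main M, AM0.main M, AM1.main M, ST.main M, SP00.main M,
    SP01.main M, SP10.main M, SP11.main M, SM00.main M, SM01.main M, SM10.main M, SM11.main M]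

/-- Coordinates for `S₃ × A₆`. -/
theorem mod_of_A (S : Setting z) (hc : Nat.card ↥(oc z) = 512)
    (φ : ↥(centralizer ({z} : Set G)) →* PA) (hφ : Function.Surjective φ)
    (hker : ∀ h, φ h = 1 ↔ (h : G) ∈ oc z) : ∃ c ∈ cfgsA, Nonempty (Mod ⟨c.1, c.2⟩ z) := by
  obtain ⟨R, hB, hq, hA⟩ := exists_rep S hc φ hφ hker
  have ht : Equiv.Perm.sign tau.2 = 1 := by decide +kernel
  let T : ∀ (v : Fin 6 → P6), (∀ i, i ≠ 5 → Equiv.Perm.sign (v i).2 = 1) → Fin 5 → PA := fun v h =>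
    ![toA (v 0) (h 0 (by decide)), toA (v 1) (h 1 (by decide)), toA (v 2) (h 2 (by decide)),
      toA (v 3) (h 3 (by decide)), toA (v 4) (h 4 (by decide))]
  let t : PA := toA tau ht
  have hcore : ∀ {U : Fin 6 → PM} (_ : Gens U) (v : Fin 6 → P6) (_ : ∀ i, (U i : P6) = v i)
      (h : ∀ i, i ≠ 5 → Equiv.Perm.sign (v i).2 = 1),
      Core (T v h 0) (T v h 1) (T v h 2) (T v h 3) (T v h 4) := by
    intro U hU v hv h
    refine core_of_map incl incl_injective ?_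
    have := core_map hU.core (MonoidHom.ker sgn2).subtype Subtype.val_injective
    simp only [Subgroup.coe_subtype, hv] at this
    exact this
  have htw : ∀ (v : Fin 6 → P6) (h : ∀ i, i ≠ 5 → Equiv.Perm.sign (v i).2 = 1),
      Tw (v 0) (v 1) (v 2) (v 3) (v 4) tau →
      Tw (T v h 0) (T v h 1) (T v h 2) (T v h 3) (T v h 4) t := by
    intro v h hw
    constructor <;> apply incl_injective
    exacts [hw.sq, hw.tr, hw.ta, hw.tb, hw.tf, hw.tu]
  have one : ∀ {U : Fin 6 → PM} (_ : Gens U) (v : Fin 6 → P6) (_ : ∀ i, (U i : P6) = v i)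
      (h : ∀ i, i ≠ 5 → Equiv.Perm.sign (v i).2 = 1) (_ : Equiv.Perm.sign (v 5).2 = -1)
      (_ : Tw (v 0) (v 1) (v 2) (v 3) (v 4) tau),
      IsT R (T v h 0) (T v h 1) (T v h 2) ∨ IsR R (T v h 0) (T v h 1) (T v h 2) ∨
        IsX R (T v h 0) (T v h 1) (T v h 2) →
      ∃ c ∈ cfgsA, Nonempty (Mod ⟨c.1, c.2⟩ z) := by
    intro U hU v hv h h5 hw hcase
    obtain ⟨c, hcm, ev, Fr, hl⟩ : ∃ c ∈ cfgsA, ∃ ev, R.Frame ev c.2 ∧
        List.Forall₂ (R.Moves ev) c.1 [T v h 0, T v h 1, T v h 2, T v h 4, t] := by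
      rcases hcase with e | e | e
      · obtain ⟨ev, Fr, hl, -⟩ := frameA_T (hcore hU v hv h) (htw v h hw) e
        exact ⟨_, List.mem_cons_self .., ev, Fr, hl⟩
      · obtain ⟨l, hlm, ct, hct, ev, Fr, hl, -⟩ := frameA_R (hcore hU v hv h) (htw v h hw) e
        refine ⟨_, List.mem_cons_of_mem _ (List.mem_flatMap.2 ⟨l, hlm, List.mem_map.2 ⟨ct, hct, rfl⟩⟩),
          ev, Fr, hl⟩
      · exact (not_X (hcore hU v hv h) e).elim
    exact ⟨c, hcm, exists_mod S hc φ hφ hker hB hq hA Fr hl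
      (cfgs_codes c (List.mem_append_left _ hcm)) (closure_A hU v hv h h5)⟩
  rcases cases3 (R := R) (hcore gens0 val0 (fun _ => rfl) val0_sign.1)
    (hcore gens1 val1 (fun _ => rfl) val1_sign.1) (by decide +kernel) (by decide +kernel)
    (by decide +kernel) with h | h
  · exact one gens0 val0 (fun _ => rfl) val0_sign.1 val0_sign.2 tau_tw.1 h
  · exact one gens1 val1 (fun _ => rfl) val1_sign.1 val1_sign.2 tau_tw.2.2.1 h

/-- Coordinates for `S₃ × S₆`. -/
theorem mod_of_S (S : Setting z) (hc : Nat.card ↥(oc z) = 512)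
    (φ : ↥(centralizer ({z} : Set G)) →* P6) (hφ : Function.Surjective φ)
    (hker : ∀ h, φ h = 1 ↔ (h : G) ∈ oc z) : ∃ c ∈ cfgsS, Nonempty (Mod ⟨c.1, c.2⟩ z) := by
  obtain ⟨R, hB, hq, hA⟩ := exists_rep S hc φ hφ hker
  have hcore : ∀ {U : Fin 6 → PM} (_ : Gens U) (v : Fin 6 → P6) (_ : ∀ i, (U i : P6) = v i),
      Core (v 0) (v 1) (v 2) (v 3) (v 4) := by
    intro U hU v hv
    have := core_map hU.core (MonoidHom.ker sgn2).subtype Subtype.val_injective
    simp only [Subgroup.coe_subtype, hv] at this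
    exact this
  have hout : ∀ {U : Fin 6 → PM} (_ : Gens U) (v : Fin 6 → P6) (_ : ∀ i, (U i : P6) = v i),
      S36.Out (v 0) (v 1) (v 2) (v 3) (v 4) (v 5) := by
    intro U hU v hv
    obtain ⟨h1, h2, h3, h4, h5, h6⟩ := hU.out
    have e : ∀ {p q : PM}, p = q → (p : P6) = q := fun h => congrArg Subtype.val h
    have e1 := e h1; have e2 := e h2; have e3 := e h3; have e4 := e h4; have e5 := e h5; have e6 := e h6
    simp only [Subgroup.coe_mul, Subgroup.coe_one, hv] at e1 e2 e3 e4 e5 e6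
    exact ⟨e1, e2, e3, e4, e5, e6⟩
  have one : ∀ {U : Fin 6 → PM} (_ : Gens U) (v : Fin 6 → P6) (_ : ∀ i, (U i : P6) = v i)
      (_ : ∀ i, i ≠ 5 → Equiv.Perm.sign (v i).2 = 1) (_ : Equiv.Perm.sign (v 5).2 = -1)
      (_ : Tw (v 0) (v 1) (v 2) (v 3) (v 4) tau) (_ : tau * v 5 = v 5 * tau),
      IsT R (v 0) (v 1) (v 2) ∨ IsR R (v 0) (v 1) (v 2) ∨ IsX R (v 0) (v 1) (v 2) →
      ∃ c ∈ cfgsS, Nonempty (Mod ⟨c.1, c.2⟩ z) := by
    intro U hU v hv h h5 hw hx hcase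
    have C := hcore hU v hv
    have O := hout hU v hv
    obtain ⟨c, hcm, ev, Fr, hl⟩ : ∃ c ∈ cfgsS, ∃ ev, R.Frame ev c.2 ∧
        List.Forall₂ (R.Moves ev) c.1 [v 0, v 1, v 2, v 4, tau, v 5] := by
      rcases hcase with e | e | e
      · obtain ⟨ev, Fr, hl, hX⟩ := frameA_T C hw e
        refine ⟨_, List.mem_cons_self .., ev, Fr, ?_⟩
        simp only [List.forall₂_cons, List.Forall₂.nil, and_true] at hl ⊢
        obtain ⟨l1, l2, l3, l4, l5⟩ := hl
        exact ⟨l1, l2, l3, l4, l5, hX _ O hx⟩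
      · obtain ⟨l, hlm, ct, hct, ev, Fr, hl, hX⟩ := frameA_R C hw e
        obtain ⟨cx, hcx, hXm⟩ := hX _ O hx
        refine ⟨_, List.mem_cons_of_mem _ (List.mem_flatMap.2 ⟨l, hlm,
          List.mem_flatMap.2 ⟨ct, hct, List.mem_map.2 ⟨cx, hcx, rfl⟩⟩⟩), ev, Fr, ?_⟩
        simp only [List.forall₂_cons, List.Forall₂.nil, and_true] at hl ⊢
        obtain ⟨l1, l2, l3, l4, l5⟩ := hl
        exact ⟨l1, l2, l3, l4, l5, hXm⟩
      · exact (not_X C e).elim
    exact ⟨c, hcm, exists_mod S hc φ hφ hker hB hq hA Fr hl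
      (cfgs_codes c (List.mem_append_right _ hcm)) (closure_six hU v hv h h5)⟩
  rcases cases3 (R := R) (hcore gens0 val0 fun _ => rfl) (hcore gens1 val1 fun _ => rfl)
    (by decide +kernel) (by decide +kernel) (by decide +kernel) with h | h
  · exact one gens0 val0 (fun _ => rfl) val0_sign.1 val0_sign.2 tau_tw.1 tau_tw.2.1 h
  · exact one gens1 val1 (fun _ => rfl) val1_sign.1 val1_sign.2 tau_tw.2.2.1 tau_tw.2.2.2 h

omit [Finite G] in
/-- The kernel of the map to a quotient by the 2-core. -/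
theorem ker_quot' {Q : Type*} [Group Q]
    (e : (↥(centralizer ({z} : Set G)) ⧸ pCore 2 ↥(centralizer ({z} : Set G))) ≃* Q)
    (h : ↥(centralizer ({z} : Set G))) :
    e (QuotientGroup.mk h) = 1 ↔ (h : G) ∈ oc z := by
  rw [MulEquiv.map_eq_one_iff, QuotientGroup.eq_one_iff]
  exact ⟨fun hh => ⟨h, hh, rfl⟩, fun ⟨k, hk, e'⟩ => (Subtype.ext e' : k = h) ▸ hk⟩

/-- There is no simple group with such a centraliser. -/
theorem not_simple (hz : orderOf z = 2)
    (hQ : IsExtraspecial 2 ↥(pCore 2 ↥(centralizer ({z} : Set G))))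
    (hQ9 : Nat.card ↥(pCore 2 ↥(centralizer ({z} : Set G))) = 2 ^ 9)
    (hCQ : centralizer ((pCore 2 ↥(centralizer ({z} : Set G))) : Set ↥(centralizer ({z} : Set G))) ≤
      pCore 2 ↥(centralizer ({z} : Set G)))
    (hMQ : Nonempty (↥(centralizer ({z} : Set G)) ⧸ pCore 2 ↥(centralizer ({z} : Set G)) ≃* PA) ∨
      Nonempty (↥(centralizer ({z} : Set G)) ⧸ pCore 2 ↥(centralizer ({z} : Set G)) ≃* P6)) :
    ¬ IsSimpleGroup G := by
  intro hs
  have S := setting_of hz hQ hCQ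
  have hc : Nat.card ↥(oc z) = 512 := (card_oc hQ9).trans (by norm_num)
  have hG : ¬ IsMulCommutative G := by
    intro hcomm
    have hzc : (zpowers z) = ⊤ := by
      rcases (⟨fun a ha g => by rw [hcomm.is_comm.comm g a, mul_inv_cancel_right]; exact ha⟩ :
        (zpowers z).Normal).eq_bot_or_eq_top with h | h
      · rw [zpowers_eq_bot] at h; rw [h, orderOf_one] at hz; cases hz
      · exact h
    have h2 : Nat.card G = 2 := by rw [← Subgroup.card_top (G := G), ← hzc, Nat.card_zpowers, hz]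
    have h3 : Nat.card ↥(oc z) ≤ Nat.card G := Nat.card_le_card_of_injective _ Subtype.val_injective
    omega
  obtain ⟨c, hcm, ⟨M⟩⟩ : ∃ c ∈ cfgsA ++ cfgsS, Nonempty (Mod ⟨c.1, c.2⟩ z) := by
    rcases hMQ with ⟨⟨e⟩⟩ | ⟨⟨e⟩⟩
    · obtain ⟨c, hcm, h⟩ := mod_of_A S hc (e.toMonoidHom.comp (QuotientGroup.mk' _))
        (e.surjective.comp (QuotientGroup.mk'_surjective _)) (ker_quot' e)
      exact ⟨c, List.mem_append_left _ hcm, h⟩
    · obtain ⟨c, hcm, h⟩ := mod_of_S S hc (e.toMonoidHom.comp (QuotientGroup.mk' _))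
        (e.surjective.comp (QuotientGroup.mk'_surjective _)) (ker_quot' e)
      exact ⟨c, List.mem_append_right _ hcm, h⟩
  exact false_of_sup hG hz (sup_top hcm M)

end Cfsg.Agent.U62Rec.S83
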