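import Cfsg.Agent.U62Rec.S36.FrameT
import Cfsg.Agent.U62Rec.S36.FrameR

/-!
# Frames for `S₃ × A₆` and `S₃ × S₆`
-/

set_option autoImplicit false
set_option maxRecDepth 100000

namespace Cfsg.Agent.U62Rec.S83

open S36
open Act3 (el piece sumMap Inp ev Plane)

/-- The relations of an involution of the first factor. -/
structure Tw {Q : Type*} [Group Q] (r a b f u t : Q) : Prop where
  sq : t * t = 1
  tr : t * r = r * r * t
  ta : t * a = a * t
  tb : t * b = b * t
  tf : t * f = f * t
  tu : t * u = u * t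

/-- A code. -/
def gTT : ℕ := 3463479494608751620

/-- A code. -/
def gRT0 : ℕ := 9241421688590304001

/-- A code. -/
def gRT1 : ℕ := 4647750068672398081

/-- The configurations for `S₃ × A₆`. -/
def cfgsA : List (List ℕ × ℕ) :=
  ([S36.gTR, S36.gTA, S36.gTB, S36.gTU, gTT], 255) ::
    [63, 255].flatMap fun l => [gRT0, gRT1].map fun t => ([S36.gRR, S36.gRA, S36.gRB, S36.gRU, t], l)

/-- The configurations for `S₃ × S₆`. -/
def cfgsS : List (List ℕ × ℕ) :=
  ([S36.gTR, S36.gTA, S36.gTB, S36.gTU, gTT, S36.gTX], 255) ::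
    [63, 255].flatMap fun l => [gRT0, gRT1].flatMap fun t =>
      [S36.gRX0, S36.gRX1].map fun x => ([S36.gRR, S36.gRA, S36.gRB, S36.gRU, t, x], l)

variable {Q : Type*} [Group Q] {V : Type*} [AddCommGroup V] {R : Rep Q V} {r a b f u x t : Q}

theorem ht_el (C : Core r a b f u) (T : Tw r a b f u t) (e : Ex) :
    t * (f * f) * el (dd r a b) e = el (dd r a b) (-e) * (t * (f * f)) := by
  have key : ∀ c : ZMod 3, (2 * c.val) % 3 = (-c).val := by decide
  have p : ∀ {g : Q}, g * g * g = 1 → ∀ c : ZMod 3, (g * g) ^ c.val = g ^ (-c).val := by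
    intro g hg c
    have h3 : g ^ 3 = 1 := by rw [pow_succ, pow_two, hg]
    rw [← pow_two, ← pow_mul, pow_eq_pow_mod _ h3, key]
  have fr : SemiconjBy f r r := C.fr
  have fa : SemiconjBy f a b := C.fa
  have fb : SemiconjBy f b (a * a) := C.fb
  have tr : SemiconjBy t r (r * r) := T.tr
  have ta : SemiconjBy t a a := T.ta
  have tb : SemiconjBy t b b := T.tb
  have hr : SemiconjBy (t * (f * f)) r (r * r) := tr.mul_left (fr.mul_left fr)
  have ha : SemiconjBy (t * (f * f)) a (a * a) := (ta.mul_right ta).mul_left (fb.mul_left fa)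
  have hb : SemiconjBy (t * (f * f)) b (b * b) := (tb.mul_right tb).mul_left ((fa.mul_right fa).mul_left fb)
  have h : t * (f * f) * (r ^ (e 0).val * a ^ (e 1).val * b ^ (e 2).val) =
      (r * r) ^ (e 0).val * (a * a) ^ (e 1).val * (b * b) ^ (e 2).val * (t * (f * f)) :=
    ((hr.pow_right (e 0).val).mul_right (ha.pow_right (e 1).val)).mul_right (hb.pow_right (e 2).val)
  rw [p C.r3, p C.a3, p C.b3] at h
  exact h

theorem ht_mem (C : Core r a b f u) (T : Tw r a b f u t) {p : Ex} {v : V}
    (hv : v ∈ piece R (dd r a b) p) : R.act (t * (f * f)) v ∈ piece R (dd r a b) p := by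
  intro e
  have h : ∀ w, R.act (el (dd r a b) e) (R.act (t * (f * f)) w) =
      R.act (t * (f * f)) (R.act (el (dd r a b) (-e)) w) := fun w => by
    rw [← R.act_mul, ← R.act_mul, ht_el C T, neg_neg]
  have hd : ∀ p e : Ex, dot p (-e) = 0 ↔ dot p e = 0 := by decide +kernel
  constructor
  · intro he
    rw [h, (hv _).1 ((hd p e).2 he)]
  · intro he
    rw [Rep.F, h, h, ← R.act_add, ← R.act_add]
    have := (hv (-e)).2 fun h' => he ((hd p e).1 h')
    rw [Rep.F] at this
    rw [this, R.act_zero]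

theorem hff (C : Core r a b f u) (T : Tw r a b f u t) : t * (f * f) * (t * (f * f)) = 1 := by
  have h : Commute t (f * f) := (show Commute t f from T.tf).mul_right T.tf
  rw [mul_assoc, ← mul_assoc (f * f), ← h.eq, mul_assoc t, C.f4, mul_one, T.sq]

/-- The coordinate permutation of `t`. -/
def tT (k : Fin 4) : Fin 4 := ![1, 0, 3, 2] k

theorem gTT_facts : ∀ k : Fin 4, app gTT (u0 k) = u0 (tT k) ∧
    app gTT (u1 k) = u0 (tT k) ^^^ u1 (tT k) := by decide +kernel

/-- Four planes. -/
theorem frameA_T (C : Core r a b f u) (T : Tw r a b f u t) (hT : IsT R r a b) :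
    ∃ e, R.Frame e 255 ∧ List.Forall₂ (R.Moves e) [S36.gTR, S36.gTA, S36.gTB, S36.gTU, gTT] [r, a, b, u, t] ∧
      ∀ x, S36.Out r a b f u x → t * x = x * t → R.Moves e S36.gTX x := by
  have A : Tri R (dd r a b) := tri_of C
  obtain ⟨hid, -, -, hxs⟩ := idT_facts
  have P : ∀ k, Plane R (dd r a b) (idT k) 0 := fun k => ⟨(hid k).1, cardT C hT k, (hid k).2⟩
  have hsq : ∀ v, R.act (t * (f * f)) (R.act (t * (f * f)) v) = v := fun v => by
    rw [← R.act_mul, hff C T, R.act_one]
  obtain ⟨w0, hw0, hne, ht0⟩ := A.exists_fixed (P 0) (x := t * (f * f)) (fun v hv => ht_mem C T hv)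
    (fun v _ => hsq v)
  obtain ⟨hwm, hfw, hF, hd, hf, hU⟩ := baseT C hT hw0 hne
  set w := wT R f w0 with hwdef
  set y := yT R r f w0 with hydef
  have hm := fun k => (hwm k).1
  have hn := fun k => (hwm k).2
  have htf : ∀ v, R.act t (R.act f v) = R.act f (R.act t v) := fun v => by
    rw [← R.act_mul, T.tf, R.act_mul]
  have hf4 : ∀ v, R.act f (R.act f (R.act f (R.act f v))) = v := fun v => by
    rw [← R.act_mul, ← R.act_mul, ← R.act_mul]
    rw [show f * f * f * f = f * f * (f * f) by group, C.f4, R.act_one]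
  have e0 : R.act t w0 = R.act f (R.act f w0) := by
    have h := congrArg (fun v => R.act f (R.act f v)) ht0
    simp only [R.act_mul, htf, hf4] at h
    exact h
  have htw : ∀ k, R.act t (w k) = w (tT k) := by
    intro k
    fin_cases k
    · exact e0
    · show R.act t (R.act f (R.act f w0)) = w0
      rw [htf, htf, e0, hf4]
    · show R.act t (R.act f w0) = R.act f (R.act f (R.act f w0))
      rw [htf, e0]
    · show R.act t (R.act f (R.act f (R.act f w0))) = R.act f w0
      rw [htf, htf, htf, e0, hf4]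
  have hTT : R.Moves (mkE w y) gTT t := moves_of R
    (fun k => by rw [(gTT_facts k).1, vec_u0, htw])
    (fun k => by
      rw [(gTT_facts k).2, vec_both R]
      show R.act t (R.act r (w k)) = _
      rw [x_move C.r3 T.tr (v := w k) (by rw [htw]; exact A.twice (P _) (hm _) (hn _)), htw]
      rfl)
  refine ⟨_, hF, ?_, fun x O hxt => moveX_T C O hT hw0 hne ?_⟩
  · simp only [List.forall₂_cons, List.Forall₂.nil, and_true]
    exact ⟨hd 0, hd 1, hd 2, hU, hTT⟩
  · -- `x` fixes `w0`
    have hxh : x * (f * f) = f * f * x := by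
      rw [← mul_assoc, O.xf, mul_assoc _ x f, O.xf, show f * f * f * (f * f * f * x) =
        f * f * (f * f) * (f * f * x) by group, C.f4, one_mul]
    have hc : x * (t * (f * f)) = t * (f * f) * x := by
      rw [← mul_assoc, ← hxt, mul_assoc t x, hxh, ← mul_assoc]
    have hr : Commute (x * (t * (f * f))) r := by
      have fr : Commute (f * f) r := (show Commute f r from C.fr).mul_left C.fr
      show x * (t * (f * f)) * r = r * (x * (t * (f * f)))
      have h3 : r * r * (r * r) = r := by rw [← mul_assoc, C.r3, one_mul]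
      calc x * (t * (f * f)) * r = x * (t * r) * (f * f) := by
            rw [mul_assoc x, mul_assoc t, fr.eq, ← mul_assoc t, mul_assoc x (t * r)]
        _ = x * r * r * t * (f * f) := by rw [T.tr]; group
        _ = r * r * (x * r) * t * (f * f) := by nth_rw 1 [O.xr]; group
        _ = r * r * (r * r) * x * t * (f * f) := by nth_rw 1 [O.xr]; group
        _ = r * (x * (t * (f * f))) := by rw [h3]; group
    have hmem : ∀ v ∈ piece R (dd r a b) (chr (idT 0)),
        R.act (x * (t * (f * f))) v ∈ piece R (dd r a b) (chr (idT 0)) := fun v hv => by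
      rw [R.act_mul]; exact x_mem C O hxs (ht_mem C T hv)
    have e := A.invol_id (P 0) (x := x * (t * (f * f))) hw0 hmem (fun v _ => by
      rw [← R.act_mul]
      nth_rw 2 [hc]
      rw [mul_assoc, ← mul_assoc (t * (f * f)), hff C T, one_mul, O.sq, R.act_one])
      (fun v _ => R.act_comm hr v)
    rwa [R.act_mul, ht0] at e

/-- Three planes and the fixed plane. -/
theorem frameA_R (C : Core r a b f u) (T : Tw r a b f u t) (hR : IsR R r a b) :
    ∃ l ∈ [63, 255], ∃ ct ∈ [gRT0, gRT1], ∃ e, R.Frame e l ∧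
      List.Forall₂ (R.Moves e) [S36.gRR, S36.gRA, S36.gRB, S36.gRU, ct] [r, a, b, u, t] ∧
      ∀ x, S36.Out r a b f u x → t * x = x * t → ∃ cx ∈ [S36.gRX0, S36.gRX1], R.Moves e cx x := by
  have A : Tri R (dd r a b) := tri_of C
  obtain ⟨h11, h12, h0⟩ := hR
  have P0 : Plane R (dd r a b) 11 0 := ⟨by decide, h11, by decide⟩
  have P1 : Plane R (dd r a b) 12 1 := ⟨by decide, h12, by decide⟩
  have hhm : ∀ v ∈ piece R (dd r a b) (chr 12), R.act (f * f) v ∈ piece R (dd r a b) (chr 12) := by
    intro v hv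
    rw [R.act_mul]
    exact f_mem C (x := chr 13) (by decide +kernel) (f_mem C (x := chr 12) (by decide +kernel) hv)
  have hhsq : ∀ v, R.act (f * f) (R.act (f * f) v) = v := fun v => by
    rw [← R.act_mul, C.f4, R.act_one]
  -- `t` maps each piece to itself
  have htm : ∀ i : Fin 14, i ∈ [0, 11, 12, 13] → ∀ v ∈ piece R (dd r a b) (chr i),
      R.act t v ∈ piece R (dd r a b) (chr i) := by
    intro i hi v hv
    have e : R.act t v = R.act (t * (f * f)) (R.act (f * f) v) := by
      rw [← R.act_mul, mul_assoc, C.f4, mul_one]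
    rw [e]
    refine ht_mem C T ?_
    rw [R.act_mul]
    simp only [List.mem_cons, List.not_mem_nil, or_false] at hi
    rcases hi with rfl | rfl | rfl | rfl
    · exact f_mem C (x := chr 0) (by decide +kernel) (f_mem C (x := chr 0) (by decide +kernel) hv)
    · exact f_mem C (x := chr 11) (by decide +kernel) (f_mem C (x := chr 11) (by decide +kernel) hv)
    · exact f_mem C (x := chr 13) (by decide +kernel) (f_mem C (x := chr 12) (by decide +kernel) hv)
    · exact f_mem C (x := chr 12) (by decide +kernel) (f_mem C (x := chr 13) (by decide +kernel) hv)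
  have htt : ∀ v, R.act t (R.act t v) = v := fun v => by rw [← R.act_mul, T.sq, R.act_one]
  obtain ⟨w0, m0, n0, t0⟩ := A.exists_fixed P0 (x := t) (htm 11 (by simp)) (fun v _ => htt v)
  obtain ⟨w1, m1, n1, h1⟩ := A.exists_fixed P1 (x := f * f) hhm (fun v _ => hhsq v)
  rw [R.act_mul] at h1
  have t1 : R.act t w1 = w1 :=
    A.invol_id P1 m1 (htm 12 (by simp)) (fun v _ => htt v) fun v _ => R.act_comm T.ta v
  have hf11 : ∀ v ∈ piece R (dd r a b) (chr 11), R.act f v ∈ piece R (dd r a b) (chr 11) :=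
    fun v hv => f_mem C (x := chr 11) (by decide +kernel) hv
  have hff' : ∀ v ∈ piece R (dd r a b) (chr 11), R.act f (R.act f v) = v := fun v hv => by
    rw [← R.act_mul]
    refine A.invol_id P0 (x := f * f) hv (fun w hw => by rw [R.act_mul]; exact hf11 _ (hf11 _ hw))
      (fun w _ => hhsq w) fun w _ => R.act_comm ?_ w
    show Commute (f * f) r
    exact (show Commute f r from C.fr).mul_left C.fr
  have f0 : R.act f w0 = w0 := A.invol_id P0 m0 hf11 hff' fun w _ => R.act_comm C.fr w
  have S : Start R r a b f u t w0 w1 := ⟨C, T.tr, T.tu, ⟨h11, h12, h0⟩, m0, m1, n0, n1, t0, f0, h1⟩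
  obtain ⟨s, hs, z', hzW, hBs', hz', Fr, hd, hf, hg, huw1⟩ := baseR S
  set w := wR R f w0 w1 s with hwdef
  set y := yR R r a b f w0 w1 (s + z') with hydef
  have hta : ∀ v, R.act t (R.act a v) = R.act a (R.act t v) := fun v => R.act_comm T.ta v
  have htf : ∀ v, R.act t (R.act f v) = R.act f (R.act t v) := fun v => R.act_comm T.tf v
  have htb : ∀ v, R.act t (R.act b v) = R.act b (R.act t v) := fun v => R.act_comm T.tb v
  have htz : R.act t z' = z' := by
    rw [hz', R.act_add, R.act_add, R.act_comm T.tu, hta, htf, t1]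
  have hts : R.act t s = s ∨ R.act t s = s + z' := by
    have hB2 : R.B (R.act t s) z' = true := by rw [← htz, R.B_act, hBs']
    rcases w_cases A h0 hs hzW hBs' (htm 0 (by simp) s hs) with e | e | e | e
    · rw [e, R.B_zero] at hB2; cases hB2
    · exact Or.inl e
    · rw [e, R.B_self] at hB2; cases hB2
    · exact Or.inr e
  have ty0 : R.act t (R.act r w0) = w0 + R.act r w0 :=
    (x_move C.r3 T.tr (v := w0) (by rw [t0]; exact A.twice P0 m0 n0)).trans (by rw [t0])
  have tab : (app gRT0 1 = 1 ∧ app gRT0 2 = 3 ∧ app gRT0 4 = 4 ∧ app gRT0 8 = 8 ∧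
      app gRT0 16 = 16 ∧ app gRT0 32 = 32 ∧ app gRT0 64 = 64 ∧ app gRT0 128 = 128) ∧
      (app gRT1 1 = 1 ∧ app gRT1 2 = 3 ∧ app gRT1 4 = 4 ∧ app gRT1 8 = 8 ∧
      app gRT1 16 = 16 ∧ app gRT1 32 = 32 ∧ app gRT1 64 = 128 ∧ app gRT1 128 = 64) := by
    decide +kernel
  have gen : ∀ ct, app ct 1 = 1 → app ct 2 = 3 → app ct 4 = 4 → app ct 8 = 8 → app ct 16 = 16 →
      app ct 32 = 32 → R.act t s = vec (mkE w y) (app ct 64) →
      R.act t (s + z') = vec (mkE w y) (app ct 128) → R.Moves (mkE w y) ct t := by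
    intro ct t1' t2 t4 t8 t16 t32 t64 t128
    refine moves_of R (fun k => ?_) (fun k => ?_) <;> fin_cases k
    · show R.act t w0 = vec (mkE w y) (app ct 1)
      rw [t1', t0]; exact (vec_u0 w y 0).symm
    · show R.act t w1 = vec (mkE w y) (app ct 4)
      rw [t4, t1]; exact (vec_u0 w y 1).symm
    · show R.act t (R.act f w1) = vec (mkE w y) (app ct 16)
      rw [t16, htf, t1]; exact (vec_u0 w y 2).symm
    · exact t64
    · show R.act t (R.act r w0) = vec (mkE w y) (app ct 2)
      rw [t2, ty0]; exact (vec_both R w y 0).symm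
    · show R.act t (R.act a w1) = vec (mkE w y) (app ct 8)
      rw [t8, hta, t1]; exact (vec_u1 w y 1).symm
    · show R.act t (R.act b (R.act f w1)) = vec (mkE w y) (app ct 32)
      rw [t32, htb, htf, t1]; exact (vec_u1 w y 2).symm
    · exact t128
  obtain ⟨ct, hct, hTT⟩ : ∃ ct ∈ [gRT0, gRT1], R.Moves (mkE w y) ct t := by
    obtain ⟨⟨a1, a2, a3, a4, a5, a6, a7, a8⟩, b1, b2, b3, b4, b5, b6, b7, b8⟩ := tab
    rcases hts with e | e
    · refine ⟨gRT0, by simp, gen _ a1 a2 a3 a4 a5 a6 ?_ ?_⟩
      · rw [a7, e]; exact (vec_u0 w y 3).symm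
      · rw [a8, R.act_add, e, htz]; exact (vec_u1 w y 3).symm
    · refine ⟨gRT1, by simp, gen _ b1 b2 b3 b4 b5 b6 ?_ ?_⟩
      · rw [b7, e]; exact (vec_u1 w y 3).symm
      · rw [b8, R.act_add, e, htz, add_assoc, R.two, add_zero]; exact (vec_u0 w y 3).symm
  refine ⟨if R.q s then 255 else 63, by cases R.q s <;> simp, ct, hct, _, Fr, ?_, fun x O hxt => ?_⟩
  · simp only [List.forall₂_cons, List.Forall₂.nil, and_true]
    exact ⟨hd 0, hd 1, hd 2, hg, hTT⟩
  -- `x` fixes both vectors
  have hxm : ∀ i : Fin 14, (∀ e, dot (chr i) (xsig e) = 0 ↔ dot (chr i) e = 0) →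
      ∀ v ∈ piece R (dd r a b) (chr i), R.act x v ∈ piece R (dd r a b) (chr i) :=
    fun i hi v hv => x_mem C O hi hv
  have x0 : R.act x w0 = w0 := by
    have hr : Commute (x * t) r := by
      show x * t * r = r * (x * t)
      have h3 : r * r * (r * r) = r := by rw [← mul_assoc, C.r3, one_mul]
      calc x * t * r = x * r * r * t := by rw [mul_assoc, T.tr]; group
        _ = r * r * (x * r) * t := by nth_rw 1 [O.xr]; group
        _ = r * r * (r * r) * (x * t) := by nth_rw 1 [O.xr]; group
        _ = r * (x * t) := by rw [h3]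
    have e := A.invol_id P0 (x := x * t) m0
      (fun v hv => by rw [R.act_mul]; exact hxm 11 (by decide +kernel) _ (htm 11 (by simp) v hv))
      (fun v _ => by
        rw [← R.act_mul]
        nth_rw 2 [← hxt]
        rw [mul_assoc, ← mul_assoc t t, T.sq, one_mul, O.sq, R.act_one])
      (fun v _ => R.act_comm hr v)
    rwa [R.act_mul, t0] at e
  have x1 : R.act x w1 = w1 := by
    have hxh : x * (f * f) = f * f * x := by
      rw [← mul_assoc, O.xf, mul_assoc _ x f, O.xf, show f * f * f * (f * f * f * x) =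
        f * f * (f * f) * (f * f * x) by group, C.f4, one_mul]
    have hha : f * f * a = a * a * (f * f) := by rw [mul_assoc, C.fa, ← mul_assoc, C.fb, mul_assoc]
    have hca : Commute (x * (f * f)) a := by
      show x * (f * f) * a = a * (x * (f * f))
      have h4 : a * a * (a * a) = a := by rw [← mul_assoc, C.a3, one_mul]
      calc x * (f * f) * a = x * a * a * (f * f) := by rw [mul_assoc, hha]; group
        _ = a * a * (x * a) * (f * f) := by nth_rw 1 [O.xa]; group
        _ = a * a * (a * a) * (x * (f * f)) := by nth_rw 1 [O.xa]; group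
        _ = a * (x * (f * f)) := by rw [h4]
    have e := A.invol_id P1 (x := x * (f * f)) m1
      (fun v hv => by rw [R.act_mul]; exact hxm 12 (by decide +kernel) _ (hhm v hv))
      (fun v _ => by
        rw [← R.act_mul]
        nth_rw 2 [hxh]
        rw [mul_assoc, ← mul_assoc (f * f), C.f4, one_mul, O.sq, R.act_one])
      (fun v _ => R.act_comm hca v)
    rwa [R.act_mul, R.act_mul, h1] at e
  exact moveX_R S O x0 x1 hs hzW hBs' hz' huw1

end Cfsg.Agent.U62Rec.S83
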