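import Cfsg.Agent.U62Rec.S36.Setup
import Cfsg.Agent.U62Rec.S83.Frames

/-!
# Generators of `S₃ × A₆` and `S₃ × S₆`
-/

set_option autoImplicit false
set_option maxRecDepth 100000

open Subgroup

namespace Cfsg.Agent.U62Rec.S83

open S36
open Equiv (Perm swap)

/-- `S₃ × A₆`. -/
abbrev PA := Perm (Fin 3) × ↥(alternatingGroup (Fin 6))

/-- The inclusion. -/
noncomputable abbrev incl : PA →* P6 :=
  (MonoidHom.id (Perm (Fin 3))).prodMap (alternatingGroup (Fin 6)).subtype

theorem incl_injective : Function.Injective incl := by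
  intro p q h
  exact Prod.ext (congrArg Prod.fst h :) (Subtype.ext (congrArg Prod.snd h :))

/-- The involution of the first factor. -/
def tau : P6 := (swap 0 1, 1)

theorem core_map {P Q : Type*} [Group P] [Group Q] {r a b f u : P} (h : Core r a b f u) (e : P →* Q)
    (he : Function.Injective e) : Core (e r) (e a) (e b) (e f) (e u) := by
  obtain ⟨h1, h2, h3, h4, h5, h6, h7, h8, h9, h10, h11, h12, h13, h14, h15, h16, h17, h18, h19, h20,
    h21⟩ := h
  constructor <;> simp only [ne_eq, ← map_mul, ← map_one e, he.eq_iff] <;> assumption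

theorem core_of_map {P Q : Type*} [Group P] [Group Q] {r a b f u : P} (e : P →* Q)
    (he : Function.Injective e) (h : Core (e r) (e a) (e b) (e f) (e u)) : Core r a b f u := by
  obtain ⟨h1, h2, h3, h4, h5, h6, h7, h8, h9, h10, h11, h12, h13, h14, h15, h16, h17, h18, h19, h20,
    h21⟩ := h
  simp only [ne_eq, ← map_mul, ← map_one e, he.eq_iff] at *
  constructor <;> assumption

theorem tau_tw : Tw (val0 0) (val0 1) (val0 2) (val0 3) (val0 4) tau ∧ tau * val0 5 = val0 5 * tau ∧
    Tw (val1 0) (val1 1) (val1 2) (val1 3) (val1 4) tau ∧ tau * val1 5 = val1 5 * tau := by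
  refine ⟨?_, ?_, ?_, ?_⟩
  · constructor <;> decide +kernel
  · decide +kernel
  · constructor <;> decide +kernel
  · decide +kernel

/-- The subgroup generated by `r, a, b, u, τ`. -/
def HA (v : Fin 6 → P6) : Subgroup P6 := closure {g | g ∈ [v 0, v 1, v 2, v 4, tau]}

theorem gen_even {T : Fin 6 → PM} (hT : Gens T) (v : Fin 6 → P6) (hv : ∀ i, (T i : P6) = v i)
    (hev : ∀ i, i ≠ 5 → Equiv.Perm.sign (v i).2 = 1) (hodd : Equiv.Perm.sign (v 5).2 = -1) (q : P6)
    (hq : Equiv.Perm.sign q.2 = 1) : q ∈ HA v := by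
  set K : Subgroup PM := closure {g | g ∈ [T 0, T 1, T 2, T 4]}
  have m : ∀ g ∈ [T 0, T 1, T 2, T 4], g ∈ K := fun g hg => subset_closure hg
  have ha := m (T 1) (by simp)
  have hb := m (T 2) (by simp)
  have hu := m (T 4) (by simp)
  have hf : T 3 ∈ K := by
    rw [← hT.core.word]
    exact mul_mem (mul_mem (mul_mem (mul_mem (mul_mem (mul_mem (mul_mem (mul_mem (mul_mem hb hu) ha) hb)
      hu) ha) ha) hb) hu) hb
  have hgen : ∀ i, i ≠ 5 → T i ∈ K := by
    intro i hi
    fin_cases i
    exacts [m _ (by simp), ha, hb, hf, hu, absurd rfl hi]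
  have hconj : ∀ k ∈ K, T 5 * k * T 5 ∈ K := by
    intro k hk
    induction hk using closure_induction with
    | mem g hg =>
      simp only [List.mem_cons, List.not_mem_nil, or_false, Set.mem_ofPred_eq] at hg
      have h5 := hT.out.sq
      rcases hg with rfl | rfl | rfl | rfl
      · rw [hT.out.xr, mul_assoc, h5, mul_one]; exact mul_mem (m _ (by simp)) (m _ (by simp))
      · rw [hT.out.xa, mul_assoc, h5, mul_one]; exact mul_mem ha ha
      · rw [hT.out.xb, mul_assoc, h5, mul_one]; exact hb
      · rw [hT.out.xu, mul_assoc, h5, mul_one]; exact hu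
    | one => rw [mul_one, hT.out.sq]; exact one_mem _
    | mul x y _ _ hx hy =>
      have e : T 5 * (x * y) * T 5 = T 5 * x * T 5 * (T 5 * y * T 5) := by
        rw [show T 5 * x * T 5 * (T 5 * y * T 5) = T 5 * x * (T 5 * T 5) * y * T 5 by group,
          hT.out.sq]; group
      rw [e]; exact mul_mem hx hy
    | inv x _ hx =>
      have h5 : (T 5)⁻¹ = T 5 := inv_eq_of_mul_eq_one_right hT.out.sq
      rw [show T 5 * x⁻¹ * T 5 = (T 5 * x * T 5)⁻¹ by rw [mul_inv_rev, mul_inv_rev, h5, mul_assoc]]
      exact inv_mem hx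
  have hall : ∀ p : PM, p ∈ K ∨ p * T 5 ∈ K := by
    intro p
    have hp : p ∈ closure (Set.range T) := hT.gen ▸ mem_top p
    have hfix : ∀ i k, k ∈ K ∨ k * T 5 ∈ K → (T i * k ∈ K ∨ T i * k * T 5 ∈ K) := by
      intro i k hk
      by_cases hi : i = 5
      · subst hi
        rcases hk with hk | hk
        · exact Or.inr (hconj k hk)
        · left
          have := hconj _ hk
          rwa [show T 5 * (k * T 5) * T 5 = T 5 * k * (T 5 * T 5) by group, hT.out.sq, mul_one] at this
      · rcases hk with hk | hk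
        · exact Or.inl (mul_mem (hgen i hi) hk)
        · exact Or.inr (by rw [mul_assoc]; exact mul_mem (hgen i hi) hk)
    induction hp using closure_induction_left with
    | one => exact Or.inl (one_mem _)
    | mul_left g hg k _ hk => obtain ⟨i, rfl⟩ := hg; exact hfix i k hk
    | inv_mul_cancel g hg k _ hk =>
      obtain ⟨i, rfl⟩ := hg
      have hpow : ∀ n, ((T i) ^ n * k ∈ K ∨ (T i) ^ n * k * T 5 ∈ K) := by
        intro n
        induction n with
        | zero => simpa using hk
        | succ n ih => rw [pow_succ', mul_assoc (T i)]; exact hfix i _ ih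
      have hord := pow_orderOf_eq_one (T i)
      have hpos := orderOf_pos (T i)
      have e : (T i) ^ (orderOf (T i) - 1) = (T i)⁻¹ := by
        refine (inv_eq_of_mul_eq_one_right ?_).symm
        rw [← pow_succ', Nat.sub_add_cancel hpos, hord]
      rw [← e]; exact hpow _
  have hKev : ∀ k ∈ K, Equiv.Perm.sign (k : P6).2 = 1 := by
    intro k hk
    induction hk using closure_induction with
    | mem g hg =>
      simp only [List.mem_cons, List.not_mem_nil, or_false, Set.mem_ofPred_eq] at hg
      rcases hg with rfl | rfl | rfl | rfl <;> rw [hv] <;> exact hev _ (by decide)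
    | one => simp
    | mul x y _ _ hx hy => simp [hx, hy]
    | inv x _ hx => simp [hx]
  have hKH : ∀ k ∈ K, (k : P6) ∈ HA v := by
    intro k hk
    induction hk using closure_induction with
    | mem g hg =>
      refine subset_closure ?_
      simp only [List.mem_cons, List.not_mem_nil, or_false, Set.mem_ofPred_eq] at hg ⊢
      rcases hg with rfl | rfl | rfl | rfl <;> simp [hv]
    | one => exact one_mem _
    | mul x y _ _ hx hy => exact mul_mem hx hy
    | inv x _ hx => exact inv_mem hx
  have hfst : ∀ q : P6, Equiv.Perm.sign q.1 = 1 → Equiv.Perm.sign q.2 = 1 → q ∈ HA v := by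
    intro q h1 h2
    have hmem : q ∈ MonoidHom.ker sgn2 := MonoidHom.mem_ker.2 (by simp [sgn2, h1, h2])
    rcases hall ⟨q, hmem⟩ with h | h
    · exact hKH _ h
    · exfalso
      have := hKev _ h
      rw [Subgroup.coe_mul, hv 5, Prod.snd_mul, map_mul] at this
      simp [h2, hodd] at this
  rcases Int.units_eq_one_or (Equiv.Perm.sign q.1) with h | h
  · exact hfst q h hq
  · have ht : tau ∈ HA v := subset_closure (by simp)
    have := mul_mem (hfst (q * tau) (by simp [tau, h]) (by simp [tau, hq])) ht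
    rwa [mul_assoc, show tau * tau = 1 by decide +kernel, mul_one] at this

/-- The first factor and the second in a tuple. -/
def toA (q : P6) (h : Equiv.Perm.sign q.2 = 1) : PA := (q.1, ⟨q.2, Equiv.Perm.mem_alternatingGroup.2 h⟩)

theorem val0_sign : (∀ i, i ≠ 5 → Equiv.Perm.sign (val0 i).2 = 1) ∧
    Equiv.Perm.sign (val0 5).2 = -1 := by decide +kernel

theorem val1_sign : (∀ i, i ≠ 5 → Equiv.Perm.sign (val1 i).2 = 1) ∧
    Equiv.Perm.sign (val1 5).2 = -1 := by decide +kernel

theorem closure_six {T : Fin 6 → PM} (hT : Gens T) (v : Fin 6 → P6) (hv : ∀ i, (T i : P6) = v i)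
    (hev : ∀ i, i ≠ 5 → Equiv.Perm.sign (v i).2 = 1) (hodd : Equiv.Perm.sign (v 5).2 = -1) :
    closure {g | g ∈ [v 0, v 1, v 2, v 4, tau, v 5]} = ⊤ := by
  rw [eq_top_iff']
  intro q
  have hsub : HA v ≤ closure {g | g ∈ [v 0, v 1, v 2, v 4, tau, v 5]} := closure_mono fun g hg => by
    simp only [Set.mem_ofPred_eq, List.mem_cons, List.not_mem_nil, or_false] at hg ⊢
    tauto
  rcases Int.units_eq_one_or (Equiv.Perm.sign q.2) with h | h
  · exact hsub (gen_even hT v hv hev hodd q h)
  · have h5 : v 5 ∈ closure {g | g ∈ [v 0, v 1, v 2, v 4, tau, v 5]} := subset_closure (by simp)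
    have := mul_mem (hsub (gen_even hT v hv hev hodd (q * v 5) (by simp [h, hodd]))) (inv_mem h5)
    rwa [mul_inv_cancel_right] at this

theorem closure_A {T : Fin 6 → PM} (hT : Gens T) (v : Fin 6 → P6) (hv : ∀ i, (T i : P6) = v i)
    (hev : ∀ i, i ≠ 5 → Equiv.Perm.sign (v i).2 = 1) (hodd : Equiv.Perm.sign (v 5).2 = -1) :
    closure {g | g ∈ [toA (v 0) (hev 0 (by decide)), toA (v 1) (hev 1 (by decide)),
      toA (v 2) (hev 2 (by decide)), toA (v 4) (hev 4 (by decide)),
      toA tau (by decide +kernel)]} = ⊤ := by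
  rw [eq_top_iff']
  intro p
  have h := gen_even hT v hv hev hodd (incl p) (Equiv.Perm.mem_alternatingGroup.1 p.2.2)
  have hle : HA v ≤ (closure {g | g ∈ [toA (v 0) (hev 0 (by decide)), toA (v 1) (hev 1 (by decide)),
      toA (v 2) (hev 2 (by decide)), toA (v 4) (hev 4 (by decide)),
      toA tau (by decide +kernel)]}).map incl := by
    refine (closure_le _).2 fun g hg => ?_
    simp only [Set.mem_ofPred_eq, List.mem_cons, List.not_mem_nil, or_false] at hg
    rcases hg with rfl | rfl | rfl | rfl | rfl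
    exacts [⟨toA (v 0) (hev 0 (by decide)), subset_closure (by simp), rfl⟩,
      ⟨toA (v 1) (hev 1 (by decide)), subset_closure (by simp), rfl⟩,
      ⟨toA (v 2) (hev 2 (by decide)), subset_closure (by simp), rfl⟩,
      ⟨toA (v 4) (hev 4 (by decide)), subset_closure (by simp), rfl⟩,
      ⟨toA tau (by decide +kernel), subset_closure (by simp), rfl⟩]
  obtain ⟨p', hp', e⟩ := hle h
  exact incl_injective e ▸ hp'

end Cfsg.Agent.U62Rec.S83
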